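import Groth.Agent.Lib.OverBC14.Adjunction
import Groth.Agent.Lib.AlgSpace.Space

/-!
# Algebraic spaces and change of the base scheme
-/

universe u

set_option backward.isDefEq.respectTransparency.types false

open CategoryTheory CategoryTheory.Limits AlgebraicGeometry AlgSp Opposite
open Groth.Agent.AlgSpace

namespace Groth.Agent.OverBC14

variable {S S' : Scheme.{u}} (g : S ⟶ S') {F G : Sp S}

/-- The extension of a map from a scheme, normalised. -/
noncomputable def mapPt {T : Over S} (a : (yon S).obj T ⟶ F) : (yon S').obj ((Over.map g).obj T) ⟶ (L g).obj F :=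
  (θ g T).inv ≫ (L g).map a

theorem mapPt_apply {T : Over S} (a : (yon S).obj T ⟶ F) :
    (AlgSp.J S').uliftYonedaEquiv (mapPt g a) = toL g ((AlgSp.J S).uliftYonedaEquiv a) := rfl

/-- Every map from a scheme to an extension comes from `S`. -/
theorem exists_pt {T' : Over S'} (a' : (yon S').obj T' ⟶ (L g).obj F) :
    ∃ (T : Over S) (e : T' ≅ (Over.map g).obj T) (a : (yon S).obj T ⟶ F),
      (yon S').map e.hom ≫ mapPt g a = a' := by
  let x : LObj g F T' := (AlgSp.J S').uliftYonedaEquiv a'
  let T : Over S := Over.mk x.1.1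
  let e : T' ≅ (Over.map g).obj T := Over.isoMk (Iso.refl _) ((Category.id_comp _).trans x.1.2)
  refine ⟨T, e, (AlgSp.J S).uliftYonedaEquiv.symm x.2, ?_⟩
  apply (AlgSp.J S').uliftYonedaEquiv.injective
  rw [← GrothendieckTopology.uliftYonedaEquiv_naturality, mapPt_apply, Equiv.apply_symm_apply]
  exact LObj.ext (a := LObj.map e.hom (toL g x.2)) (Category.id_comp _)
    (congrArg (fun p : Over.mk (𝟙 T'.left ≫ x.1.1) ⟶ T => F.obj.map p.op x.2) (Over.OverMorphism.ext rfl))

/-- The square of a represented fibre product, extended. -/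
theorem isPullback_mapPt {f : G ⟶ F} {T V : Over S} {a : (yon S).obj T ⟶ F} {fst : (yon S).obj V ⟶ G}
    {v : V ⟶ T} (sq : IsPullback fst ((yon S).map v) f a) :
    IsPullback (mapPt g fst) ((yon S').map ((Over.map g).map v)) ((L g).map f) (mapPt g a) := by
  refine (isPullback_map g sq).of_iso (θ g V) (Iso.refl _) (θ g T) (Iso.refl _) ?_ ?_ ?_ ?_
  · simp [mapPt]
  · exact θ_natural g v
  · simp
  · simp [mapPt]

variable {g} {P : MorphismProperty Scheme.{u}} [P.IsStableUnderBaseChange]

theorem repWith_map {f : G ⟶ F} (hf : RepWith P f) : RepWith P ((L g).map f) := by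
  refine MorphismProperty.relative.of_exists fun T' a' => ?_
  obtain ⟨T, e, a, rfl⟩ := exists_pt g a'
  have sq := isPullback_mapPt g (hf.1.isPullback a)
  refine ⟨(Over.map g).obj (hf.1.pullback a), mapPt g (hf.1.fst a), (Over.map g).map (hf.1.snd a) ≫ e.inv,
    ?_, ?_⟩
  · exact sq.of_iso (Iso.refl _) (Iso.refl _) ((yon S').mapIso e.symm) (Iso.refl _) (by simp)
      (by simp) (by simp) (by simp)
  · change P (_ ≫ e.inv).left
    have : P.RespectsIso := MorphismProperty.IsStableUnderBaseChange.respectsIso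
    have : IsIso e.inv.left := inferInstanceAs (IsIso ((Over.forget S').map e.inv))
    rw [Over.comp_left, P.cancel_right_of_respectsIso]
    exact hf.2 a _ _ (hf.1.isPullback a)

theorem repWith_of_map {f : G ⟶ F} (hf : RepWith P ((L g).map f)) : RepWith P f := by
  refine MorphismProperty.relative.of_exists fun T a => ?_
  have sq := hf.1.isPullback (mapPt g a)
  let v := hf.1.snd (mapPt g a)
  let V : Over S := Over.mk (v.left ≫ T.hom)
  let e : hf.1.pullback (mapPt g a) ≅ (Over.map g).obj V :=
    Over.isoMk (Iso.refl _) ((Category.id_comp _).trans ((Category.assoc _ _ _).trans (Over.w v)))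
  let v₀ : V ⟶ T := Over.homMk v.left rfl
  have hv : e.hom ≫ (Over.map g).map v₀ = v := Over.OverMorphism.ext (Category.id_comp _)
  let h : (L g).obj ((yon S).obj V) ⟶ (L g).obj G :=
    (θ g V).hom ≫ (yon S').map e.inv ≫ hf.1.fst (mapPt g a)
  have hw : h ≫ (L g).map f = (L g).map ((yon S).map v₀) ≫ (L g).map a := by
    simp only [h, Category.assoc, sq.w]
    rw [← Functor.map_comp_assoc, (Iso.inv_comp_eq e).2 hv.symm]
    simp only [mapPt, ← Category.assoc]
    rw [← θ_natural]
    simp
  obtain ⟨fst, hfst⟩ := exists_map g (h := h) (by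
    rw [← L_map_π g f, ← Category.assoc, hw, Category.assoc, L_map_π, L_map_π])
  refine ⟨V, fst, v₀, isPullback_of_map g ?_, hf.2 _ _ _ sq⟩
  rw [hfst]
  refine sq.of_iso ((yon S').mapIso e ≪≫ (θ g V).symm) (Iso.refl _) (θ g T).symm (Iso.refl _) ?_ ?_ ?_ ?_
  · simp [h]
  · change (yon S').map v ≫ (θ g T).inv = ((yon S').map e.hom ≫ (θ g V).inv) ≫ (L g).map ((yon S).map v₀)
    rw [Category.assoc, ← hv, Functor.map_comp, Category.assoc]
    congr 1
  · simp
  · simp [mapPt]

theorem repWith_map_iff {f : G ⟶ F} : RepWith P ((L g).map f) ↔ RepWith P f :=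
  ⟨repWith_of_map, repWith_map⟩

theorem representable_iff_top {S : Scheme.{u}} {F G : Sp S} (f : F ⟶ G) : Representable f ↔ RepWith ⊤ f :=
  ⟨fun h => ⟨h, fun _ _ _ _ _ _ => trivial⟩, fun h => h.1⟩

theorem representable_map_iff {f : G ⟶ F} : Representable ((L g).map f) ↔ Representable f := by
  rw [representable_iff_top, representable_iff_top]
  exact repWith_map_iff

variable (g) in
theorem isAlgSpace_L_iff (F : Sp S) : IsAlgSpace ((L g).obj F) ↔ IsAlgSpace F := by
  have hd : ∀ {T : Over S} (a : (yon S).obj T ⟶ F),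
      Representable (mapPt g a) ↔ Representable a := fun {T} a => by
    rw [← representable_map_iff (g := g) (f := a)]
    exact MorphismProperty.cancel_left_of_respectsIso Representable (θ g T).inv _
  constructor
  · intro h
    refine ⟨Functor.relativelyRepresentable.diag_iff.2 fun T a => (hd a).1 (h.representable_from_yon _), ?_⟩
    obtain ⟨U', p', he, hs⟩ := h.atlas
    obtain ⟨U, e, p, rfl⟩ := exists_pt g p'
    refine ⟨U, p, ?_, ?_⟩
    all_goals
      refine repWith_of_map (g := g) ?_
      rw [← MorphismProperty.cancel_left_of_respectsIso (RepWith _) ((yon S').map e.hom ≫ (θ g U).inv),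
        Category.assoc]
      first | exact he | exact hs
  · intro h
    refine ⟨Functor.relativelyRepresentable.diag_iff.2 fun T' a' => ?_, ?_⟩
    · obtain ⟨T, e, a, rfl⟩ := exists_pt g a'
      exact (MorphismProperty.cancel_left_of_respectsIso Representable _ _).2 ((hd a).2 (h.representable_from_yon a))
    · obtain ⟨U, p, he, hs⟩ := h.atlas
      refine ⟨(Over.map g).obj U, mapPt g p, ?_, ?_⟩
      · exact (MorphismProperty.cancel_left_of_respectsIso (RepWith @Etale) _ _).2 (repWith_map he)
      · exact (MorphismProperty.cancel_left_of_respectsIso (RepWith @Surjective) _ _).2 (repWith_map hs)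

variable (g) in
/-- Restriction of an algebraic space is an algebraic space exactly when its product with `S` is one. -/
theorem isAlgSpace_R_iff (G : Sp S') :
    IsAlgSpace ((R g).obj G) ↔ IsAlgSpace ((yon S').obj (Over.mk g) ⨯ G) :=
  (isAlgSpace_L_iff g _).symm.trans (ObjectProperty.prop_iff_of_iso (IsAlgSpace (S := S')) (prodIso g G))

end Groth.Agent.OverBC14

namespace Groth.Agent.OverBC14

variable {S S' : Scheme.{u}} (g : S ⟶ S')

/-- The counit squares are cartesian. -/
theorem isPullback_counit {Y Z : Sp S'} (p : Y ⟶ Z) :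
    IsPullback (εApp g Y) ((L g).map ((R g).map p)) p (εApp g Z) := by
  let h := (yon S').obj (Over.mk g)
  have sqZ : IsPullback (prod.snd : h ⨯ Z ⟶ Z) prod.fst (terminal.from Z) (terminal.from h) :=
    (IsPullback.of_hasBinaryProduct' h Z).flip
  have sqY : IsPullback (prod.snd : h ⨯ Y ⟶ Y) prod.fst (terminal.from Y) (terminal.from h) :=
    (IsPullback.of_hasBinaryProduct' h Y).flip
  have sq : IsPullback (prod.snd : h ⨯ Y ⟶ Y) (prod.map (𝟙 h) p) p (prod.snd : h ⨯ Z ⟶ Z) :=
    IsPullback.of_bot (by simpa using sqY) (by simp) sqZ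
  refine sq.of_iso (prodIso g Y).symm (Iso.refl _) (prodIso g Z).symm (Iso.refl _) ?_ ?_ ?_ ?_
  · simp only [Iso.refl_hom, Category.comp_id, Iso.symm_hom, Iso.eq_inv_comp]
    exact prod.lift_snd _ _
  · rw [Iso.symm_hom, Iso.symm_hom, Iso.eq_inv_comp, ← Category.assoc, Iso.comp_inv_eq]
    refine prod.hom_ext ?_ ?_
    · have h₁ : (prodIso g Y).hom ≫ prod.fst = π g ((R g).obj Y) := prod.lift_fst _ _
      have h₂ : (prodIso g Z).hom ≫ prod.fst = π g ((R g).obj Z) := prod.lift_fst _ _
      rw [Category.assoc, Category.assoc, prod.map_fst, Category.comp_id, h₁, h₂, L_map_π]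
    · have h₁ : (prodIso g Y).hom ≫ prod.snd = εApp g Y := prod.lift_snd _ _
      have h₂ : (prodIso g Z).hom ≫ prod.snd = εApp g Z := prod.lift_snd _ _
      rw [Category.assoc, Category.assoc, prod.map_snd, ← Category.assoc, h₁, h₂]
      exact ((adj g).counit.naturality p).symm
  · simp
  · simp only [Iso.refl_hom, Category.comp_id, Iso.symm_hom, Iso.eq_inv_comp]
    exact prod.lift_snd _ _

/-- Sheaves over `S` are extensions. -/
theorem exists_L_iso {Y : Sp S'} (p : Y ⟶ (yon S').obj (Over.mk g)) :
    ∃ (F : Sp S) (e : (L g).obj F ≅ Y), e.hom ≫ p = π g F := by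
  let one : Over S := Over.mk (𝟙 S)
  let i : (Over.map g).obj one ≅ Over.mk g := Over.isoMk (Iso.refl _)
    (show 𝟙 S ≫ g = 𝟙 S ≫ g from rfl)
  let α := (θ g one) ≪≫ (yon S').mapIso i
  let t := (adj g).homEquiv _ _ α.hom
  have sq := (isPullback_map g (IsPullback.of_hasPullback ((R g).map p) t)).paste_horiz (isPullback_counit g p)
  have ht : (L g).map t ≫ εApp g _ = α.hom :=
    ((adj g).homEquiv_counit (g := t)).symm.trans (((adj g).homEquiv _ _).symm_apply_apply _)
  rw [ht] at sq
  have := sq.isIso_fst_of_isIso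
  refine ⟨_, asIso _, sq.w.trans ?_⟩
  have hπ : α.hom = π g ((yon S).obj one) := by
    rw [← θ_π]
    simp only [α, Iso.trans_hom, Functor.mapIso_hom]
    congr 2
  rw [hπ, L_map_π]

end Groth.Agent.OverBC14
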