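import Groth.Agent.Lib.OverBC14.Functor

/-!
# The extension is left adjoint to restriction
-/

universe u

set_option backward.isDefEq.respectTransparency.types false

open CategoryTheory CategoryTheory.Limits AlgebraicGeometry AlgSp Opposite

namespace Groth.Agent.OverBC14

variable {S S' : Scheme.{u}} (g : S ⟶ S')

/-- Restriction along the morphism of base schemes. -/
noncomputable abbrev R : Sp S' ⥤ Sp S := Scheme.fppfTopology.overMapPullback (Type (u + 1)) g

/-- The unit. -/
noncomputable def ηApp (F : Sp S) : F ⟶ (R g).obj ((L g).obj F) :=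
  ⟨{ app := fun T => ↾(toL g (T := T.unop))
     naturality := fun {T₁ _} p => ConcreteCategory.hom_ext _ _ fun (x : F.obj.obj T₁) =>
       LObj.ext (Over.w p.unop).symm (map_map_eq _ _ p.unop (Category.id_comp _) x) }⟩

variable {g} in
/-- The value of the counit on a section. -/
noncomputable def εVal {G : Sp S'} {T' : Over S'} (a : LObj g ((R g).obj G) T') : G.obj.obj (op T') :=
  G.obj.map (Over.homMk (𝟙 T'.left) ((Category.id_comp _).trans a.1.2) :
    T' ⟶ (Over.map g).obj (Over.mk a.1.1)).op a.2

/-- The counit. -/
noncomputable def εApp (G : Sp S') : (L g).obj ((R g).obj G) ⟶ G :=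
  ⟨{ app := fun T' => ↾(εVal (g := g) (T' := T'.unop))
     naturality := fun {T₁ T₂} p => ConcreteCategory.hom_ext _ _ fun (a : LObj g ((R g).obj G) T₁.unop) => by
      change εVal (LObj.map p.unop a) = G.obj.map p (εVal a)
      refine (map_map_eq _ _ (p.unop ≫ _) ?_ _).trans (Functor.map_comp_apply _ _ _ _)
      exact (Category.id_comp _).trans (Category.comp_id _).symm }⟩

/-- The adjunction. -/
noncomputable def adj : L g ⊣ R g :=
  Adjunction.mkOfUnitCounit
    { unit := { app := ηApp g, naturality := fun F G f => by ext T x; rfl }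
      counit :=
        { app := εApp g
          naturality := fun F G f => by
            ext ⟨T'⟩ (a : LObj g ((R g).obj F) T')
            exact naturality f _ _ }
      left_triangle := by
        ext F ⟨T'⟩ (a : LObj g F T')
        refine LObj.ext (Category.id_comp _) ?_
        exact rfl
      right_triangle := by
        ext G ⟨T⟩ (x : G.obj.obj (op ((Over.map g).obj T)))
        exact map_id' _ rfl x }

/-- The extension is the left adjoint used in the statements. -/
noncomputable def pullbackIso : (Over.map g).sheafPullback (Type (u + 1)) (AlgSp.J S) (AlgSp.J S') ≅ L g :=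
  ((Over.map g).sheafAdjunctionContinuous (Type (u + 1)) (AlgSp.J S) (AlgSp.J S')).leftAdjointUniq (adj g)

variable {g} in
/-- The pairing of a section of `S` and a section of the sheaf. -/
noncomputable def pairVal {G : Sp S'} {T' : Over S'} (φ : T' ⟶ Over.mk g) (y : G.obj.obj (op T')) :
    LObj g ((R g).obj G) T' :=
  ⟨⟨φ.left, Over.w φ⟩, G.obj.map (Over.homMk (𝟙 T'.left) (by
    change 𝟙 _ ≫ T'.hom = φ.left ≫ g
    rw [Category.id_comp]; exact (Over.w φ).symm) : (Over.map g).obj (Over.mk φ.left) ⟶ T').op y⟩

/-- The pairing. -/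
noncomputable def pair {P G : Sp S'} (a : P ⟶ (yon S').obj (Over.mk g)) (b : P ⟶ G) :
    P ⟶ (L g).obj ((R g).obj G) :=
  ⟨{ app := fun T' => ↾(fun x => pairVal (a.hom.app T' x).down (b.hom.app T' x))
     naturality := fun {T₁ T₂} p => ConcreteCategory.hom_ext _ _ fun x => by
       change pairVal (a.hom.app T₂ (P.obj.map p x)).down (b.hom.app T₂ (P.obj.map p x)) =
         LObj.map p.unop (pairVal (a.hom.app T₁ x).down (b.hom.app T₁ x))
       rw [NatTrans.naturality_apply, NatTrans.naturality_apply]
       refine LObj.ext rfl ?_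
       let k : (Over.map g).obj (Over.mk (p.unop.left ≫ (a.hom.app T₁ x).down.left)) ⟶ T₂.unop :=
         Over.homMk (𝟙 T₂.unop.left) (by
           change 𝟙 _ ≫ T₂.unop.hom = (p.unop.left ≫ (a.hom.app T₁ x).down.left) ≫ g
           rw [Category.id_comp, Category.assoc]
           exact (Over.w p.unop).symm.trans (congrArg (p.unop.left ≫ ·) (Over.w (a.hom.app T₁ x).down).symm))
       refine ((congrArg _ (map_map_eq _ _ (k ≫ p.unop) ?_ _)).trans (map_map_eq _ _ (k ≫ p.unop) ?_ _)).trans
         (map_map_eq _ p.unop (k ≫ p.unop) ?_ _).symm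
       all_goals simp [k] }⟩

/-- Extension of restriction is the product with `S`. -/
noncomputable def prodIso (G : Sp S') : (L g).obj ((R g).obj G) ≅ (yon S').obj (Over.mk g) ⨯ G where
  hom := prod.lift (π g ((R g).obj G)) (εApp g G)
  inv := pair g prod.fst prod.snd
  hom_inv_id := by
    ext ⟨T'⟩ (a : LObj g ((R g).obj G) T')
    have h₁ := congrArg (fun k => k.hom.app (op T') a)
      (prod.lift_fst (π g ((R g).obj G)) (εApp g G))
    have h₂ := congrArg (fun k => k.hom.app (op T') a)
      (prod.lift_snd (π g ((R g).obj G)) (εApp g G))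
    change pairVal _ _ = a
    simp only [ObjectProperty.FullSubcategory.comp_hom, NatTrans.comp_app, ConcreteCategory.comp_apply] at h₁ h₂
    refine (congrArg₂ (fun (p : ULift (T' ⟶ Over.mk g)) y => pairVal p.down y) h₁ h₂).trans ?_
    refine LObj.ext (a := pairVal ((π g ((R g).obj G)).hom.app (op T') a).down _) rfl ?_
    exact ((map_id' _ rfl _).trans ((map_map_eq (F := G) _ _ (𝟙 ((Over.map g).obj (Over.mk a.1.1)))
      (Category.id_comp _) a.2).trans (map_id' _ rfl _)).symm)
  inv_hom_id := by
    apply prod.hom_ext
    · rw [Category.assoc, prod.lift_fst, Category.id_comp]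
      ext T' x
      rfl
    · rw [Category.assoc, prod.lift_snd, Category.id_comp]
      ext ⟨T'⟩ x
      exact (map_map_eq _ _ (𝟙 T') (Category.id_comp _) _).trans (map_id' _ rfl _)

end Groth.Agent.OverBC14
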