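import Groth.Prelude.Def_AlgSp
import Mathlib.CategoryTheory.Limits.Types.Pullbacks
import Mathlib.CategoryTheory.Sites.SubcanonicalOver

/-!
# Extension of sheaves along a morphism of base schemes

For `g : S ⟶ S'` the left adjoint of restriction of fppf sheaves from `S'` to `S` sends `F` to
`T' ↦ Σ φ : T' ⟶ S over S', F(T', φ)`.
-/

universe u

set_option backward.isDefEq.respectTransparency.types false

open CategoryTheory CategoryTheory.Limits AlgebraicGeometry AlgSp Opposite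

namespace Groth.Agent.OverBC14

variable {S S' : Scheme.{u}} (g : S ⟶ S')

/-- Sections of the extension. -/
def LObj (F : Sp S) (T' : Over S') : Type (u + 1) :=
  Σ φ : {φ : T'.left ⟶ S // φ ≫ g = T'.hom}, F.obj.obj (op (Over.mk φ.1))

variable {g} {F G : Sp S}

theorem LObj.ext {T' : Over S'} {a b : LObj g F T'} (h : a.1.1 = b.1.1)
    (hx : F.obj.map (Over.homMk (𝟙 T'.left) (by simp [h]) : Over.mk a.1.1 ⟶ Over.mk b.1.1).op b.2 = a.2) :
    a = b := by
  obtain ⟨⟨φ, hφ⟩, x⟩ := a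
  obtain ⟨⟨ψ, hψ⟩, y⟩ := b
  obtain rfl : φ = ψ := h
  obtain rfl : y = x := by
    have e : (Over.homMk (𝟙 T'.left) (by simp) : Over.mk φ ⟶ Over.mk φ) = 𝟙 _ := rfl
    simpa [e] using hx
  rfl

/-- The transition maps of the extension. -/
def LObj.map {T₁ T₂ : Over S'} (p : T₂ ⟶ T₁) (a : LObj g F T₁) : LObj g F T₂ :=
  ⟨⟨p.left ≫ a.1.1, by rw [Category.assoc, a.1.2, Over.w]⟩,
    F.obj.map (Over.homMk p.left rfl : Over.mk (p.left ≫ a.1.1) ⟶ Over.mk a.1.1).op a.2⟩

theorem map_map_eq {U V W : Over S} (p : U ⟶ V) (q : V ⟶ W) (r : U ⟶ W) (h : p.left ≫ q.left = r.left)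
    (x : F.obj.obj (op W)) : F.obj.map p.op (F.obj.map q.op x) = F.obj.map r.op x := by
  rw [← Functor.map_comp_apply, ← op_comp]
  exact congrArg (fun k : U ⟶ W => F.obj.map k.op x) (Over.OverMorphism.ext h)

variable (g) in
/-- The extension as a presheaf. -/
def LPre (F : Sp S) : (Over S')ᵒᵖ ⥤ Type (u + 1) where
  obj T' := LObj g F T'.unop
  map p := ↾(LObj.map p.unop)
  map_id T' := by
    refine ConcreteCategory.hom_ext _ _ fun a => LObj.ext (Category.id_comp _) ?_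
    rfl
  map_comp p q := by
    refine ConcreteCategory.hom_ext _ _ fun a => LObj.ext (Category.assoc _ _ _) ?_
    let m : Over.mk (q.unop.left ≫ p.unop.left ≫ a.1.1) ⟶ Over.mk (p.unop.left ≫ a.1.1) :=
      Over.homMk q.unop.left rfl
    let n : Over.mk (p.unop.left ≫ a.1.1) ⟶ Over.mk a.1.1 := Over.homMk p.unop.left rfl
    let l : Over.mk ((q.unop.left ≫ p.unop.left) ≫ a.1.1) ⟶
        Over.mk (q.unop.left ≫ p.unop.left ≫ a.1.1) :=
      Over.homMk (𝟙 _) (by simp [Category.assoc])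
    exact (congrArg (F.obj.map l.op) (map_map_eq m n (m ≫ n) rfl a.2)).trans
      (map_map_eq l (m ≫ n) (Over.homMk (q.unop.left ≫ p.unop.left) rfl :
        Over.mk ((q.unop.left ≫ p.unop.left) ≫ a.1.1) ⟶ Over.mk a.1.1) (Category.id_comp _) a.2)

theorem LObj.congr_snd {T' : Over S'} {a b : LObj g F T'} (hab : a = b) {Y : Over S}
    (e : Y ⟶ Over.mk a.1.1) (e' : Y ⟶ Over.mk b.1.1) (he : e.left = e'.left) :
    F.obj.map e.op a.2 = F.obj.map e'.op b.2 := by
  subst hab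
  rw [Over.OverMorphism.ext he]

theorem LObj.isSheaf (F : Sp S) : Presheaf.IsSheaf (AlgSp.J S') (LPre g F) := by
  rw [isSheaf_iff_isSheaf_of_type]
  intro T' R hR
  have hh : Presieve.IsSheaf (AlgSp.J S') ((yon S').obj (Over.mk g)).obj :=
    (isSheaf_iff_isSheaf_of_type _ _).1 ((yon S').obj (Over.mk g)).property
  have hF : Presieve.IsSheaf (AlgSp.J S) F.obj := (isSheaf_iff_isSheaf_of_type _ _).1 F.property
  have hR' : ∀ φ : T'.left ⟶ S,
      (Sieve.overEquiv (Over.mk φ)).symm (Sieve.overEquiv T' R) ∈ AlgSp.J S (Over.mk φ) := fun φ =>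
    GrothendieckTopology.overEquiv_symm_mem_over _ _ _ ((GrothendieckTopology.mem_over_iff _ _).1 hR)
  have memR : ∀ {φ : T'.left ⟶ S} {Y : Over S} {p : Y ⟶ Over.mk φ},
      (Sieve.overEquiv (Over.mk φ)).symm (Sieve.overEquiv T' R) p →
      R (Over.homMk p.left rfl : Over.mk (p.left ≫ T'.hom) ⟶ T') := fun {φ Y p} hp =>
    (Sieve.overEquiv_iff _ _).1 hp
  refine Presieve.IsSeparatedFor.isSheafFor ?_ fun x hx => ?_
  · intro x a b ha hb
    have h : a.1.1 = b.1.1 := congrArg (fun c : ULift (T' ⟶ Over.mk g) => c.down.left)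
      ((hh _ hR).isSeparatedFor.ext (t₁ := ⟨Over.homMk a.1.1 a.1.2⟩) (t₂ := ⟨Over.homMk b.1.1 b.1.2⟩)
        fun Y p hp => ULift.ext _ _ (Over.OverMorphism.ext
          (congrArg (fun c : LObj g F Y => c.1.1) ((ha p hp).trans (hb p hp).symm))))
    obtain ⟨⟨φ, hφ⟩, s⟩ := a
    obtain ⟨⟨ψ, hψ⟩, t⟩ := b
    obtain rfl : φ = ψ := h
    refine congrArg (Sigma.mk _) ((hF _ (hR' φ)).isSeparatedFor.ext fun Y p hp => ?_)
    let e : Y ⟶ Over.mk (p.left ≫ φ) := Over.homMk (𝟙 Y.left) (by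
      change 𝟙 _ ≫ p.left ≫ φ = Y.hom
      rw [Category.id_comp]; exact Over.w p)
    have h2 := LObj.congr_snd ((ha _ (memR hp)).trans (hb _ (memR hp)).symm) e e rfl
    exact ((map_map_eq e _ p (Category.id_comp _) s).symm.trans h2).trans
      (map_map_eq e _ p (Category.id_comp _) t)
  · have hc : Presieve.FamilyOfElements.Compatible (P := ((yon S').obj (Over.mk g)).obj)
        (fun (Y : Over S') (p : Y ⟶ T') (hp : R p) =>
          (⟨Over.homMk (x p hp).1.1 (x p hp).1.2⟩ : ULift (Y ⟶ Over.mk g))) :=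
      fun Y₁ Y₂ Z g₁ g₂ f₁ f₂ h₁ h₂ e => ULift.ext _ _ (Over.OverMorphism.ext
        (congrArg (fun c : LObj g F Z => c.1.1) (hx g₁ g₂ h₁ h₂ e)))
    obtain ⟨⟨φ₀⟩, hφ₀, -⟩ := hh _ hR _ hc
    let φ : T'.left ⟶ S := φ₀.left
    have hφ : ∀ {Y : Over S'} (p : Y ⟶ T') (hp : R p), p.left ≫ φ = (x p hp).1.1 := fun p hp =>
      congrArg (fun c : ULift _ => c.down.left) (hφ₀ p hp)
    have hY : ∀ {Y : Over S} (p : Y ⟶ Over.mk φ)
        (hp : (Sieve.overEquiv (Over.mk φ)).symm (Sieve.overEquiv T' R) p),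
        (x _ (memR hp)).1.1 = Y.hom := fun p hp => (hφ _ (memR hp)).symm.trans (Over.w p)
    let y : Presieve.FamilyOfElements F.obj
        ((Sieve.overEquiv (Over.mk φ)).symm (Sieve.overEquiv T' R)).arrows := fun Y p hp =>
      F.obj.map (Over.homMk (𝟙 Y.left) (by
        change 𝟙 _ ≫ (x _ (memR hp)).1.1 = Y.hom
        rw [Category.id_comp, hY p hp]) : Y ⟶ Over.mk (x _ (memR hp)).1.1).op (x _ (memR hp)).2
    have hy : y.Compatible := by
      rw [Presieve.compatible_iff_sieveCompatible]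
      intro Y Z p r hp
      let rl : Z.left ⟶ Y.left := r.left
      let q : Over.mk (p.left ≫ T'.hom) ⟶ T' := Over.homMk p.left rfl
      let r' : Over.mk ((r ≫ p).left ≫ T'.hom) ⟶ Over.mk (p.left ≫ T'.hom) :=
        Over.homMk r.left (by simp)
      have hsc : x _ (memR (((Sieve.overEquiv (Over.mk φ)).symm (Sieve.overEquiv T' R)).downward_closed hp r)) =
          LObj.map r' (x _ (memR hp)) := by
        have := (Presieve.compatible_iff_sieveCompatible x).1 hx q r' (memR hp)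
        refine Eq.trans ?_ this
        congr 1
      let e : Z ⟶ Over.mk (r'.left ≫ (x _ (memR hp)).1.1) := Over.homMk (𝟙 Z.left) (by
        change 𝟙 _ ≫ r.left ≫ (x _ (memR hp)).1.1 = Z.hom
        rw [Category.id_comp, hY p hp, Over.w])
      refine (LObj.congr_snd hsc _ e rfl).trans ?_
      let eY : Y ⟶ Over.mk (x _ (memR hp)).1.1 := Over.homMk (𝟙 Y.left) ((Category.id_comp _).trans (hY p hp))
      exact (map_map_eq e _ (r ≫ eY) (by simp [e, r', eY]) _).trans (Functor.map_comp_apply _ _ _ _)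
    obtain ⟨s, hs, -⟩ := hF _ (hR' φ) y hy
    refine ⟨⟨⟨φ, Over.w φ₀⟩, s⟩, fun Y p hp => ?_⟩
    obtain ⟨Y₁, ⟨⟩, h⟩ := Y
    suffices key : ∀ (h : Y₁ ⟶ S') (q : Y₁ ⟶ T'.left) (w : q ≫ T'.hom = h)
        (hp : R (Over.homMk q w : Over.mk h ⟶ T')),
        (LPre g F).map (Over.homMk q w : Over.mk h ⟶ T').op ⟨⟨φ, Over.w φ₀⟩, s⟩ =
          x (Over.homMk q w : Over.mk h ⟶ T') hp from key h p.left (Over.w p) hp
    intro h q w hp
    subst w
    let p₀ : Over.mk (q ≫ φ) ⟶ Over.mk φ := Over.homMk q rfl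
    have hp₀ : (Sieve.overEquiv (Over.mk φ)).symm (Sieve.overEquiv T' R) p₀ := by
      rw [Sieve.overEquiv_symm_iff, Sieve.overEquiv_iff]
      exact hp
    exact LObj.ext (hφ _ hp) (hs p₀ hp₀).symm

end Groth.Agent.OverBC14
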