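import Groth.Agent.Lib.OverBC14.Basic
import Mathlib.CategoryTheory.Sites.Pullback

/-!
# The extension functor along a morphism of base schemes
-/

universe u

set_option backward.isDefEq.respectTransparency.types false

open CategoryTheory CategoryTheory.Limits AlgebraicGeometry AlgSp Opposite

namespace Groth.Agent.OverBC14

variable {S S' : Scheme.{u}} (g : S ⟶ S') {F G H W : Sp S}

theorem LObj.mk_ext {T' : Over S'} {φ : {φ : T'.left ⟶ S // φ ≫ g = T'.hom}}
    {a b : F.obj.obj (op (Over.mk φ.1))} (h : (⟨φ, a⟩ : LObj g F T') = ⟨φ, b⟩) : a = b :=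
  eq_of_heq (Sigma.mk.inj h).2

theorem naturality {F G : Sp S} (f : F ⟶ G) {U V : Over S} (p : U ⟶ V) (x : F.obj.obj (op V)) :
    G.obj.map p.op (f.hom.app (op V) x) = f.hom.app (op U) (F.obj.map p.op x) :=
  (NatTrans.naturality_apply f.hom p.op x).symm

theorem map_id' {U : Over S} (p : U ⟶ U) (h : p.left = 𝟙 U.left) (x : F.obj.obj (op U)) :
    F.obj.map p.op x = x := by
  rw [show p = 𝟙 U from Over.OverMorphism.ext h]
  exact congrArg (fun k => (ConcreteCategory.hom k) x) (F.obj.map_id (op U))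

/-- The action of the extension on morphisms. -/
noncomputable def LMapObj (f : F ⟶ G) {T' : Over S'} (a : LObj g F T') : LObj g G T' :=
  ⟨a.1, f.hom.app _ a.2⟩

/-- The extension functor. -/
noncomputable def L : Sp S ⥤ Sp S' where
  obj F := ⟨LPre g F, LObj.isSheaf F⟩
  map {F G} f := ⟨{
    app := fun T' => ↾(LMapObj g f)
    naturality := fun {T₁ T₂} p => ConcreteCategory.hom_ext _ _ fun (a : LObj g F T₁.unop) => by
      change LMapObj g f (LObj.map p.unop a) = LObj.map p.unop (LMapObj g f a)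
      exact congrArg (Sigma.mk _) (naturality f _ a.2).symm }⟩
  map_id F := by
    ext T' a
    rfl
  map_comp f f' := by
    ext T' a
    rfl

theorem L_map_apply (f : F ⟶ G) {T' : Over S'} (a : LObj g F T') :
    ((L g).map f).hom.app (op T') a = LMapObj g f a := rfl

/-- The projection of the extension to `S`. -/
noncomputable def π (F : Sp S) : (L g).obj F ⟶ (yon S').obj (Over.mk g) :=
  ⟨{ app := fun T' => ↾(fun (a : LObj g F T'.unop) => ULift.up (Over.homMk a.1.1 a.1.2))
     naturality := fun {T₁ _T₂} _p => ConcreteCategory.hom_ext _ _ fun (_a : LObj g F T₁.unop) => rfl }⟩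

theorem L_map_π (f : F ⟶ G) : (L g).map f ≫ π g G = π g F := by
  ext T' a
  rfl

/-- A section as a section of the extension. -/
def toL {T : Over S} (x : F.obj.obj (op T)) : LObj g F ((Over.map g).obj T) :=
  ⟨⟨T.hom, rfl⟩, x⟩

instance faithful : (L g).Faithful where
  map_injective {F G} f f' h := by
    ext ⟨T⟩ x
    exact LObj.mk_ext g (congrArg (fun k => k.hom.app (op ((Over.map g).obj T)) (toL g x)) h)

/-- Morphisms over `S` of extensions come from morphisms of sheaves. -/
theorem exists_map {h : (L g).obj F ⟶ (L g).obj G} (hπ : h ≫ π g G = π g F) :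
    ∃ f : F ⟶ G, (L g).map f = h := by
  have hφ : ∀ {T' : Over S'} (a : LObj g F T'), (h.hom.app (op T') a : LObj g G T').1.1 = a.1.1 :=
    fun {T'} a => congrArg (fun k : (L g).obj F ⟶ (yon S').obj (Over.mk g) =>
      (k.hom.app (op T') a).down.left) hπ
  let val : ∀ T : Over S, F.obj.obj (op T) → LObj g G ((Over.map g).obj T) :=
    fun T x => h.hom.app (op ((Over.map g).obj T)) (toL g x)
  let fT : ∀ T : Over S, F.obj.obj (op T) → G.obj.obj (op T) := fun T x =>
    G.obj.map (Over.homMk (𝟙 T.left) ((Category.id_comp _).trans (hφ (toL g x))) :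
      T ⟶ Over.mk (val T x).1.1).op (val T x).2
  refine ⟨⟨{ app := fun T => ↾(fT T.unop), naturality := ?_ }⟩, ?_⟩
  · rintro ⟨T₁⟩ ⟨T₂⟩ ⟨p⟩
    refine ConcreteCategory.hom_ext _ _ fun (x : F.obj.obj (op T₁)) => ?_
    change fT T₂ (F.obj.map p.op x) = G.obj.map p.op (fT T₁ x)
    have e : toL g (F.obj.map p.op x) = LObj.map ((Over.map g).map p) (toL g x) :=
      LObj.ext (Over.w p).symm (map_map_eq _ _ p (Category.id_comp _) x)
    have e2 : val T₂ (F.obj.map p.op x) = LObj.map ((Over.map g).map p) (val T₁ x) :=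
      (congrArg _ e).trans (naturality h ((Over.map g).map p) (toL g x)).symm
    have hT : p.left ≫ (val T₁ x).1.1 = T₂.hom := by rw [hφ]; exact Over.w p
    refine (LObj.congr_snd e2 _ (Over.homMk (𝟙 T₂.left) ((Category.id_comp _).trans hT)) rfl).trans ?_
    refine (map_map_eq _ _ (p ≫ (Over.homMk (𝟙 T₁.left) ((Category.id_comp _).trans (hφ (toL g x))) :
      T₁ ⟶ Over.mk (val T₁ x).1.1)) ?_ _).trans (Functor.map_comp_apply _ _ _ _)
    exact (Category.id_comp _).trans (Category.comp_id _).symm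
  · ext ⟨T'⟩ (a : LObj g F T')
    let T : Over S := Over.mk a.1.1
    let p : T' ⟶ (Over.map g).obj T := Over.homMk (𝟙 _) ((Category.id_comp _).trans a.1.2)
    have ea : a = LObj.map p (toL g a.2) := LObj.ext (Category.id_comp _).symm
      ((map_map_eq _ _ (𝟙 T) (Category.id_comp _) a.2).trans (map_id' _ rfl a.2))
    have e2 : h.hom.app (op T') a = LObj.map p (val T a.2) :=
      (congrArg _ ea).trans (naturality h p (toL g a.2)).symm
    refine LObj.ext (hφ a).symm ?_
    exact LObj.congr_snd e2 _ (Over.homMk (𝟙 T.left) (by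
      change 𝟙 _ ≫ 𝟙 _ ≫ _ = a.1.1
      rw [Category.id_comp, Category.id_comp]; exact hφ (toL g a.2))) rfl |>.trans
      (map_map_eq _ _ _ (Category.id_comp _) _)

/-- Sections of the extension of a representable sheaf. -/
def θEquiv (T : Over S) (T' : Over S') :
    LObj g ((yon S).obj T) T' ≃ ULift.{u + 1} (T' ⟶ (Over.map g).obj T) where
  toFun a := ULift.up (Over.homMk a.2.down.left (by
    change a.2.down.left ≫ T.hom ≫ g = _
    rw [← Category.assoc]
    exact (congrArg (· ≫ g) (Over.w a.2.down)).trans a.1.2))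
  invFun b := ⟨⟨b.down.left ≫ T.hom, (Category.assoc _ _ _).trans (Over.w b.down)⟩,
    ULift.up (Over.homMk b.down.left rfl)⟩
  left_inv a := LObj.ext (Over.w a.2.down) (ULift.ext _ _ (Over.OverMorphism.ext (Category.id_comp _)))
  right_inv b := rfl

/-- The extension of a representable sheaf. -/
noncomputable def θ (T : Over S) : (L g).obj ((yon S).obj T) ≅ (yon S').obj ((Over.map g).obj T) :=
  (fullyFaithfulSheafToPresheaf _ _).preimageIso (NatIso.ofComponents (fun T' => (θEquiv g T T'.unop).toIso)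
    (fun {T₁ T₂} p => by
      ext a
      exact ULift.ext _ _ (Over.OverMorphism.ext rfl)))

theorem θ_hom_apply (T : Over S) {T' : Over S'} (a : LObj g ((yon S).obj T) T') :
    (θ g T).hom.hom.app (op T') a = θEquiv g T T' a := rfl

theorem θ_natural {T₁ T₂ : Over S} (p : T₁ ⟶ T₂) :
    (L g).map ((yon S).map p) ≫ (θ g T₂).hom = (θ g T₁).hom ≫ (yon S').map ((Over.map g).map p) := by
  ext ⟨T'⟩ (a : LObj g ((yon S).obj T₁) T')
  exact ULift.ext _ _ (Over.OverMorphism.ext rfl)

theorem θ_π (T : Over S) :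
    (θ g T).hom ≫ (yon S').map (Over.homMk T.hom rfl : (Over.map g).obj T ⟶ Over.mk g) =
      π g ((yon S).obj T) := by
  ext ⟨T'⟩ (a : LObj g ((yon S).obj T) T')
  refine ULift.ext _ _ (Over.OverMorphism.ext ?_)
  exact Over.w a.2.down

/-- Pullback squares of sheaves, on sections. -/
theorem isPullback_iff {S : Scheme.{u}} {P X Y Z : Sp S} {a : P ⟶ X} {b : P ⟶ Y} {c : X ⟶ Z} {d : Y ⟶ Z} :
    IsPullback a b c d ↔ ∀ T, IsPullback (a.hom.app T) (b.hom.app T) (c.hom.app T) (d.hom.app T) := by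
  constructor
  · intro h T
    exact (h.map (sheafToPresheaf _ _)).map ((evaluation _ _).obj T)
  · intro h
    exact IsPullback.of_map (sheafToPresheaf _ _) (by ext1; exact NatTrans.ext (funext fun T => (h T).w)) (IsPullback.of_forall_isPullback_app h)

/-- The extension preserves fibre products. -/
theorem isPullback_map {a : W ⟶ F} {b : W ⟶ G} {c : F ⟶ H} {d : G ⟶ H} (sq : IsPullback a b c d) :
    IsPullback ((L g).map a) ((L g).map b) ((L g).map c) ((L g).map d) := by
  refine isPullback_iff.2 fun T' => (Types.isPullback_iff _ _ _ _).2 ⟨?_, ?_, ?_⟩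
  · exact congrArg (fun k => k.hom.app T') (show (L g).map a ≫ (L g).map c = (L g).map b ≫ (L g).map d by
      rw [← Functor.map_comp, ← Functor.map_comp, sq.w])
  · rintro ⟨φ, x⟩ ⟨ψ, y⟩ ⟨h₁, h₂⟩
    obtain rfl : φ = ψ := (Sigma.mk.inj h₁).1
    exact congrArg (Sigma.mk _) (((Types.isPullback_iff _ _ _ _).1 (isPullback_iff.1 sq _)).2.1 x y
      ⟨LObj.mk_ext g h₁, LObj.mk_ext g h₂⟩)
  · rintro ⟨φ, x⟩ ⟨ψ, y⟩ h
    obtain rfl : φ = ψ := (Sigma.mk.inj h).1
    obtain ⟨w, hw₁, hw₂⟩ := ((Types.isPullback_iff _ _ _ _).1 (isPullback_iff.1 sq _)).2.2 x y (LObj.mk_ext g h)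
    exact ⟨(⟨φ, w⟩ : LObj g W T'.unop), congrArg (Sigma.mk φ) hw₁, congrArg (Sigma.mk φ) hw₂⟩

/-- The extension reflects fibre products. -/
theorem isPullback_of_map {a : W ⟶ F} {b : W ⟶ G} {c : F ⟶ H} {d : G ⟶ H}
    (sq : IsPullback ((L g).map a) ((L g).map b) ((L g).map c) ((L g).map d)) : IsPullback a b c d := by
  refine isPullback_iff.2 fun ⟨T⟩ => ?_
  obtain ⟨hw, hinj, hsurj⟩ := (Types.isPullback_iff _ _ _ _).1 (isPullback_iff.1 sq (op ((Over.map g).obj T)))
  refine (Types.isPullback_iff _ _ _ _).2 ⟨?_, fun x y h => ?_, fun x y h => ?_⟩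
  · exact congrArg (fun k => k.hom.app (op T)) ((L g).map_injective (a₁ := a ≫ c) (a₂ := b ≫ d) (by
      rw [Functor.map_comp, Functor.map_comp, sq.w]))
  · exact LObj.mk_ext g (hinj (toL g x) (toL g y) ⟨congrArg (toL g) h.1, congrArg (toL g) h.2⟩)
  · obtain ⟨⟨φ, w⟩, h₁, h₂⟩ := hsurj (toL g x) (toL g y) (congrArg (toL g) h)
    obtain rfl : φ = ⟨T.hom, rfl⟩ := (Sigma.mk.inj h₁).1
    exact ⟨w, LObj.mk_ext g h₁, LObj.mk_ext g h₂⟩

end Groth.Agent.OverBC14
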